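import Cfsg.Agent.Lib.M23CocodeUniq.Data
import Cfsg.Agent.Lib.M23Cocode.Build
import Cfsg.Agent.Lib.Golay.SylowTwoData
import Cfsg.Agent.Lib.Golay.TabList

/-!
Symbolic values in the cocode of dimension 11 and collection in an extension of a Sylow 2-subgroup
of M23 by it.
-/

set_option autoImplicit false
set_option maxRecDepth 20000

namespace Cfsg.Agent.M23CocodeUniq.Collect

open Cfsg Cfsg.Agent.Golay.Basic Cfsg.Agent.Golay.Cert Cfsg.Agent.Golay.TabList
open Cfsg.Agent.M23Cocode

/-! ### Linear forms -/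

/-- The number of unknown bits. -/
def nVars : ℕ := 2420

/-- A bit as an element of the prime field. -/
def bitz (m i : ℕ) : ZMod 2 := if m.testBit i then 1 else 0

theorem bitz_xor (a b i : ℕ) : bitz (a ^^^ b) i = bitz a i + bitz b i := by
  simp only [bitz, Nat.testBit_xor]
  cases a.testBit i <;> cases b.testBit i <;> decide

theorem bitz_zero (i : ℕ) : bitz 0 i = 0 := by simp [bitz]

/-- The value of a row under an assignment. -/
noncomputable irreducible_def rv (v : ℕ → ZMod 2) (m : ℕ) : ZMod 2 :=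
  ∑ i ∈ Finset.range nVars, bitz m i * v i

theorem rv_xor (v : ℕ → ZMod 2) (a b : ℕ) : rv v (a ^^^ b) = rv v a + rv v b := by
  simp only [rv_def, bitz_xor, add_mul, Finset.sum_add_distrib]

theorem rv_zero (v : ℕ → ZMod 2) : rv v 0 = 0 := by simp [rv_def, bitz_zero]

theorem rv_two_pow (v : ℕ → ZMod 2) {k : ℕ} (hk : k < nVars) : rv v (2 ^ k) = v k := by
  rw [rv_def, Finset.sum_eq_single k]
  · simp [bitz]
  · intro i _ hi
    simp [bitz, Nat.testBit_two_pow, Ne.symm hi]
  · intro h; exact absurd (Finset.mem_range.2 hk) h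

theorem rv_zero_fun (m : ℕ) : rv (fun _ => 0) m = 0 := by simp [rv_def]

/-- Vectors of length eleven. -/
abbrev V : Type := Fin 11 → ZMod 2

/-- The value of a form. -/
noncomputable def fv (v : ℕ → ZMod 2) (f : List ℕ) : V := fun i => rv v (f.getD i.1 0)

theorem getD_map_range (g : ℕ → ℕ) {i : ℕ} (hi : i < 11) :
    ((List.range 11).map g).getD i 0 = g i := by
  rw [List.getD_eq_getElem _ _ (by simpa using hi)]
  simp

/-- Sum of forms. -/
def addF (f g : List ℕ) : List ℕ := (List.range 11).map fun i => f.getD i 0 ^^^ g.getD i 0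

theorem fv_add (v : ℕ → ZMod 2) (f g : List ℕ) : fv v (addF f g) = fv v f + fv v g := by
  funext i
  show rv v _ = rv v _ + rv v _
  rw [addF, getD_map_range _ i.2, rv_xor]

theorem fv_nil (v : ℕ → ZMod 2) : fv v [] = 0 := funext fun _ => rv_zero v

theorem fv_zero_fun (f : List ℕ) : fv (fun _ => 0) f = 0 := funext fun _ => rv_zero_fun _

/-- Selected xor. -/
def selXor (sel : ℕ → Bool) (val : ℕ → ℕ) : ℕ → ℕ
  | 0 => 0
  | n + 1 => selXor sel val n ^^^ cond (sel n) (val n) 0

theorem rv_selXor (v : ℕ → ZMod 2) (sel : ℕ → Bool) (val : ℕ → ℕ) : ∀ n,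
    rv v (selXor sel val n) = ∑ j ∈ Finset.range n, if sel j then rv v (val j) else 0
  | 0 => by simp [selXor, rv_zero]
  | n + 1 => by
    rw [selXor, rv_xor, rv_selXor v sel val n, Finset.sum_range_succ]
    cases sel n <;> simp [rv_zero]

/-- A linear map on forms. -/
def actF (gi f : List ℕ) : List ℕ :=
  (List.range 11).map fun i => selXor (fun j => (gi.getD j 0).testBit i) (fun j => f.getD j 0) 11

/-- A linear map on vectors. -/
def actX (gi : List ℕ) (x : V) : V := fun i => ∑ j : Fin 11, bitz (gi.getD j.1 0) i.1 * x j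

theorem fv_act (v : ℕ → ZMod 2) (gi f : List ℕ) : fv v (actF gi f) = actX gi (fv v f) := by
  funext i
  show rv v _ = _
  rw [actF, getD_map_range _ i.2, rv_selXor, Finset.sum_range, actX]
  refine Finset.sum_congr rfl fun j _ => ?_
  show (if (gi.getD j.1 0).testBit i.1 then rv v (f.getD j.1 0) else 0) = bitz _ _ * rv v (f.getD j.1 0)
  unfold bitz
  split_ifs <;> simp

/-- The unknown vector of one block. -/
def varF (b : ℕ) : List ℕ := (List.range 11).map fun i => 2 ^ (b * 11 + i)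

theorem fv_var (v : ℕ → ZMod 2) {b : ℕ} (hb : b < 220) : fv v (varF b) = fun i => v (b * 11 + i.1) := by
  funext i
  show rv v _ = _
  rw [varF, getD_map_range _ i.2, rv_two_pow _ (by have := i.2; simp only [nVars]; omega)]

/-! ### Tables -/

/-- One element of the Sylow subgroup. -/
def elemT (e : ℕ) : ℕ := Cfsg.Agent.Golay.SylowTwoData.s23Elems.getD e idTab

/-- One generator of the Sylow subgroup. -/
def pcT (k : ℕ) : ℕ := Cfsg.Agent.Golay.SylowTwoData.s23Pc.getD k idTab

/-- Images of the basis. -/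
def imgsOf (e : ℕ) : List ℕ := Data.imgs.getD e []

/-- An entry of the table of products. -/
def mulEnt (k e : ℕ) : ℕ × List ℕ := (Data.mulTable.getD k []).getD e (0, [])

/-- The target of a relation. -/
def tgt (k j : ℕ) : ℕ := (Data.target.getD j []).getD k 0

/-- The form of a relation. -/
def relF (k j : ℕ) : List ℕ := varF ((Data.block.getD j []).getD k 0)

/-- A product read from the table: `x` below `2 ^ n`. -/
def mulNF : ℕ → ℕ → ℕ → ℕ × List ℕ
  | 0, _, y => (y, [])
  | n + 1, x, y =>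
    if 2 ^ n ≤ x then
      ((mulEnt n (mulNF n (x - 2 ^ n) y).1).1,
        addF (actF (imgsOf (2 ^ n)) (mulNF n (x - 2 ^ n) y).2) (mulEnt n (mulNF n (x - 2 ^ n) y).1).2)
    else mulNF n x y

/-- Equality of forms. -/
def eqF (f g : List ℕ) : Bool := (List.range 11).all fun i => Nat.beq (f.getD i 0) (g.getD i 0)

theorem fv_eqF {v : ℕ → ZMod 2} {f g : List ℕ} (h : eqF f g = true) : fv v f = fv v g := by
  funext i
  show rv v _ = rv v _
  have h' := List.all_eq_true.1 h i.1 (List.mem_range.2 i.2)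
  rw [Nat.eq_of_beq_eq_true h']

/-- The recurrences at level `n`. -/
def levelOk (n : ℕ) : Bool :=
  ((List.range (2 ^ n)).all fun e =>
      Nat.beq (mulEnt n e).1 (2 ^ n + e) && eqF (mulEnt n e).2 [] &&
        Nat.beq (mulEnt n (2 ^ n + e)).1 (mulNF n (tgt n n) e).1 &&
        eqF (mulEnt n (2 ^ n + e)).2 (addF (relF n n) (mulNF n (tgt n n) e).2) &&
        Nat.blt (tgt n n) (2 ^ n)) &&
    (List.range n).all fun k => (List.range (2 ^ n)).all fun e =>
      Nat.beq (mulEnt k (2 ^ n + e)).1 (2 ^ n + (mulNF n (tgt k n) e).1) &&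
        eqF (mulEnt k (2 ^ n + e)).2
          (addF (relF k n) (actF (imgsOf (2 ^ n)) (mulNF n (tgt k n) e).2)) &&
        Nat.blt (tgt k n) (2 ^ n)

theorem levelOk_eq : ∀ n < 7, levelOk n = true := by decide +kernel

/-! ### Collection -/

variable {E : Type*} [Group E] (ι : V → E) (A : ℕ → E)

/-- The normal form. -/
def eh : ℕ → ℕ → E
  | 0, _ => 1
  | n + 1, e => if 2 ^ n ≤ e then A n * eh n (e - 2 ^ n) else eh n e

theorem eh_low {n e : ℕ} (h : e < 2 ^ n) : eh A (n + 1) e = eh A n e := by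
  rw [eh, if_neg (by omega)]

theorem eh_high {n e : ℕ} : eh A (n + 1) (2 ^ n + e) = A n * eh A n e := by
  rw [eh, if_pos (by omega), Nat.add_sub_cancel_left]

theorem eh_mono {m e : ℕ} : ∀ {n}, m ≤ n → e < 2 ^ m → eh A n e = eh A m e
  | n, h, he => by
    induction n with
    | zero => rw [Nat.le_zero.1 h]
    | succ n ih =>
      rcases Nat.eq_or_lt_of_le h with rfl | h'
      · rfl
      · rw [eh_low A (lt_of_lt_of_le he (Nat.pow_le_pow_right (by norm_num) (by omega))),
          ih (by omega)]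

/-- The data needed for collecting. -/
structure Setting (v : ℕ → ZMod 2) : Prop where
  add : ∀ x y, ι (x + y) = ι x * ι y
  act : ∀ k < 7, ∀ x, A k * ι x = ι (actX (imgsOf (2 ^ k)) x) * A k
  rel : ∀ j < 7, ∀ k ≤ j, A k * A j =
    ι (fv v (relF k j)) * (if k = j then eh A j (tgt k j) else A j * eh A j (tgt k j))

variable {ι A} {v : ℕ → ZMod 2}

theorem Setting.zero (S : Setting ι A v) : ι 0 = 1 := by
  have := S.add 0 0
  rw [add_zero] at this
  exact mul_eq_left.1 this.symm

theorem Setting.mulNF_spec (S : Setting ι A v) {n : ℕ} (hn : n ≤ 7)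
    (hL : ∀ k < n, ∀ e < 2 ^ n, (mulEnt k e).1 < 2 ^ n ∧ (e < 2 ^ (k + 1) → (mulEnt k e).1 < 2 ^ (k + 1)) ∧
      A k * eh A n e = ι (fv v (mulEnt k e).2) * eh A n (mulEnt k e).1) :
    ∀ i ≤ n, ∀ x < 2 ^ i, ∀ y < 2 ^ n, (mulNF i x y).1 < 2 ^ n ∧
      eh A n x * eh A n y = ι (fv v (mulNF i x y).2) * eh A n (mulNF i x y).1 := by
  intro i
  induction i with
  | zero =>
    intro _ x hx y hy
    obtain rfl : x = 0 := by simpa using hx
    refine ⟨hy, ?_⟩
    simp only [mulNF, fv_nil, S.zero]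
    rw [eh_mono A (Nat.zero_le n) (by norm_num : 0 < 2 ^ 0)]; simp [eh]
  | succ i ih =>
    intro hi x hx y hy
    rw [mulNF]
    split_ifs with h
    · have hx' : x - 2 ^ i < 2 ^ i := by rw [pow_succ] at hx; omega
      obtain ⟨h1, h2⟩ := ih (by omega) _ hx' y hy
      obtain ⟨h3, -, h4⟩ := hL i (by omega) _ h1
      refine ⟨h3, ?_⟩
      have ex : eh A n x = A i * eh A n (x - 2 ^ i) := by
        rw [eh_mono A (by omega : i + 1 ≤ n) hx, eh_mono A (by omega : i ≤ n) hx', eh, if_pos h]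
      rw [ex, mul_assoc, h2, ← mul_assoc, S.act i (by omega), mul_assoc, h4, ← mul_assoc, ← S.add,
        fv_add, fv_act]
    · exact ih (by omega) x (by omega) y hy

theorem Setting.table (S : Setting ι A v) : ∀ n ≤ 7, ∀ k < n, ∀ e < 2 ^ n,
    (mulEnt k e).1 < 2 ^ n ∧ (e < 2 ^ (k + 1) → (mulEnt k e).1 < 2 ^ (k + 1)) ∧
      A k * eh A n e = ι (fv v (mulEnt k e).2) * eh A n (mulEnt k e).1 := by
  intro n
  induction n with
  | zero => intro _ k hk; omega
  | succ n ih =>
    intro hn k hk e he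
    have hL := ih (by omega)
    have h := levelOk_eq n (by omega)
    simp only [levelOk, Bool.and_eq_true, List.all_eq_true, List.mem_range, Nat.blt_eq] at h
    obtain ⟨hdiag, hoff⟩ := h
    have hp : (2 : ℕ) ^ (n + 1) = 2 ^ n + 2 ^ n := by rw [pow_succ]; ring
    rcases Nat.lt_or_ge e (2 ^ n) with hlow | hhigh
    · rcases Nat.lt_or_ge k n with hkn | hkn
      · obtain ⟨h1, h1', h2⟩ := hL k hkn e hlow
        refine ⟨by omega, h1', ?_⟩
        rw [eh_low A hlow, eh_low A h1, h2]
      · obtain rfl : k = n := by omega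
        obtain ⟨⟨⟨⟨d1, d2⟩, -⟩, -⟩, -⟩ := hdiag e hlow
        rw [Nat.eq_of_beq_eq_true d1, fv_eqF d2, fv_nil, S.zero, one_mul, eh_high, eh_low A hlow]
        exact ⟨by omega, fun _ => by omega, rfl⟩
    · obtain ⟨e', rfl⟩ := Nat.exists_eq_add_of_le hhigh
      have he' : e' < 2 ^ n := by omega
      rcases Nat.lt_or_ge k n with hkn | hkn
      · obtain ⟨⟨d1, d2⟩, d3⟩ := hoff k hkn e' he'
        obtain ⟨h1, h2⟩ := S.mulNF_spec (by omega) hL n le_rfl _ d3 e' he'
        rw [Nat.eq_of_beq_eq_true d1, fv_eqF d2]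
        refine ⟨by omega, fun hh => ?_, ?_⟩
        · exfalso
          have : 2 ^ (k + 1) ≤ 2 ^ n := Nat.pow_le_pow_right (by norm_num) (by omega)
          omega
        rw [eh_high, eh_high, ← mul_assoc, S.rel n (by omega) k hkn.le, if_neg (by omega), mul_assoc,
          mul_assoc, h2, ← mul_assoc (A n), S.act n (by omega), fv_add, fv_act, S.add, mul_assoc, mul_assoc]
      · obtain rfl : k = n := by omega
        obtain ⟨⟨⟨⟨-, -⟩, d1⟩, d2⟩, d3⟩ := hdiag e' he'
        obtain ⟨h1, h2⟩ := S.mulNF_spec (by omega) hL k le_rfl _ d3 e' he'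
        rw [Nat.eq_of_beq_eq_true d1, fv_eqF d2]
        refine ⟨by omega, fun _ => by omega, ?_⟩
        rw [eh_high, eh_low A h1, ← mul_assoc, S.rel k (by omega) k le_rfl, if_pos rfl, mul_assoc, h2,
          fv_add, S.add, mul_assoc]

/-- Products of normal forms. -/
theorem Setting.mul_spec (S : Setting ι A v) {x y : ℕ} (hx : x < 128) (hy : y < 128) :
    (mulNF 7 x y).1 < 128 ∧ eh A 7 x * eh A 7 y = ι (fv v (mulNF 7 x y).2) * eh A 7 (mulNF 7 x y).1 :=
  S.mulNF_spec le_rfl (S.table 7 le_rfl) 7 le_rfl x hx y hy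

end Cfsg.Agent.M23CocodeUniq.Collect
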