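import Cfsg.Agent.Lib.M23CocodeUniq.Checks
import Cfsg.Agent.Solvable.Gaschutz

/-!
Extensions of M23 by its cocode module: complements when one functional of the kernel parts vanishes,
fibre products, and uniqueness of the extension without complement.
-/

set_option autoImplicit false
set_option maxRecDepth 20000

namespace Cfsg.Agent.M23CocodeUniq.Ext

open Cfsg Cfsg.Agent.Golay.Basic Cfsg.Agent.Golay.Cert Cfsg.Agent.Golay.TabList
open Cfsg.Agent.Golay.M24
open Cfsg.Agent.M23Cocode Cfsg.Agent.M23CocodeUniq.Collect Cfsg.Agent.M23CocodeUniq.Checks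
open scoped Pointwise

local notation "pG" => Equiv.Perm GolayPt

/-! ### The module -/

/-- A vector as a word. -/
noncomputable irreducible_def dualW (x : V) : GolayPt → ZMod 2 :=
  ∑ i : Fin 11, x i • word (maskSet (Cfsg.Agent.M23Cocode.Data.dual.getD i.1 0))

/-- The pairing with one word of the subcode. -/
noncomputable def pairH (u : Loop.W) : (GolayPt → ZMod 2) →+ ZMod 2 :=
  AddMonoidHom.mk' (fun w => Build.pair w u) fun v w => Build.pair_add v w u

/-- The coordinates of a word. -/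
noncomputable def coordW (w : GolayPt → ZMod 2) : V := fun i => pairH (Loop.bit i.1) w

theorem coordW_add (a b : GolayPt → ZMod 2) : coordW (a + b) = coordW a + coordW b :=
  funext fun _ => map_add _ a b

theorem pairH_sum (u : Loop.W) (x : V) (f : Fin 11 → GolayPt → ZMod 2) :
    pairH u (∑ j, x j • f j) = ∑ j, x j * pairH u (f j) := by
  rw [map_sum]
  exact Finset.sum_congr rfl fun j _ => ZMod.map_smul (pairH u) (x j) (f j)

theorem dualW_add (x y : V) : dualW (x + y) = dualW x + dualW y := by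
  simp only [dualW_def, Pi.add_apply, add_smul, Finset.sum_add_distrib]

theorem coordW_dualW (x : V) : coordW (dualW x) = x := by
  funext i
  show pairH _ _ = _
  rw [dualW_def, pairH_sum, Finset.sum_eq_single i]
  · show x i * Build.pair _ _ = _
    rw [Build.dual_pair i.1 i.2 i.1 i.2, if_pos rfl, mul_one]
  · intro j _ hj
    show x j * Build.pair _ _ = _
    rw [Build.dual_pair j.1 j.2 i.1 i.2, if_neg (fun e => hj (Fin.ext e)), mul_zero]
  · intro h; exact absurd (Finset.mem_univ _) h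

theorem coordW_eq_zero (w : GolayPt → ZMod 2) :
    coordW w = 0 ↔ (w ∈ golayCode ∨ w + Pi.single none 1 ∈ golayCode) := by
  rw [← Build.theta_eq_zero, Build.theta_iff_orth]
  constructor
  · intro h j hj
    rw [← Build.pair_eq]
    exact congrFun h ⟨j, hj⟩
  · intro h; funext i
    show Build.pair w _ = 0
    rw [Build.pair_eq]
    exact h i.1 i.2

theorem sum_comp {α β : Type} (s : Finset α) (x : α → ZMod 2) (f : α → β → ZMod 2) (g : β → β) :
    (∑ j ∈ s, x j • f j) ∘ g = ∑ j ∈ s, x j • (f j ∘ g) := by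
  funext p
  simp only [Function.comp_apply, Finset.sum_apply, Pi.smul_apply]

/-- The linear map of a permutation. -/
noncomputable def mOf (σ : pG) (x : V) : V := coordW (dualW x ∘ ⇑σ⁻¹)

theorem natCast_chk {n : ℕ} {b : Bool} (h : Nat.beq (n % 2) (cond b 1 0) = true) :
    (n : ZMod 2) = if b then 1 else 0 := by
  rw [← ZMod.natCast_mod, Nat.eq_of_beq_eq_true h]
  cases b <;> simp

theorem perm_word {t d : ℕ} {σ : pG} (hσ : IsTab t σ) (hd : d < 2 ^ 24) (u : Loop.W) :
    pairH u (word (maskSet d) ∘ ⇑σ⁻¹) = Loop.par2 (imgTab t d) (Loop.cm u) := by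
  have h1 := imgTab_mask hσ (maskSet d)
  rw [mask_maskSet hd] at h1
  rw [h1, ← Build.pair_par2, maskSet_mask, ← M24Module.Basic.permW_word]
  rfl

theorem mOf_tab {t : ℕ} {gi : List ℕ} (h : imgChk t gi = true) {σ : pG} (hσ : IsTab t σ) (x : V) :
    mOf σ x = actX gi x := by
  simp only [imgChk, coordChk, Bool.and_eq_true, List.all_eq_true, List.mem_range] at h
  have hd := dualLt_eq
  simp only [dualLt, List.all_eq_true, List.mem_range, Nat.blt_eq] at hd
  funext i
  show pairH _ _ = _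
  rw [dualW_def, sum_comp, pairH_sum, actX]
  refine Finset.sum_congr rfl fun j _ => ?_
  rw [perm_word hσ (lt_of_lt_of_le (hd j.1 j.2) (by norm_num)), mul_comm]
  exact congrArg (· * x j) (natCast_chk (h.2 j.1 j.2 i.1 i.2))

theorem rv_add (v w : ℕ → ZMod 2) (m : ℕ) : rv (v + w) m = rv v m + rv w m := by
  simp only [rv_def, Pi.add_apply, mul_add, Finset.sum_add_distrib]

theorem fv_vadd (v w : ℕ → ZMod 2) (f : List ℕ) : fv (v + w) f = fv v f + fv w f :=
  funext fun _ => rv_add v w _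

theorem vec_self (x : V) : x + x = 0 := funext fun i => Build.add_self₂ (x i)

/-! ### Extensions -/

/-- An extension of M23 by the cocode. -/
structure Ext (E : Type*) [Group E] where
  /-- The projection. -/
  π : E →* ↥Spor.M23
  /-- The kernel map. -/
  ι : V → E
  surj : Function.Surjective π
  add : ∀ x y, ι (x + y) = ι x * ι y
  inj : ∀ x, ι x = 1 → x = 0
  ker : ∀ e, π e = 1 ↔ ∃ x, ι x = e
  conj : ∀ g x, g * ι x = ι (mOf (π g : pG) x) * g

section

variable {E : Type*} [Group E]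

theorem Ext.map_ι (X : Ext E) (x : V) : X.π (X.ι x) = 1 := (X.ker _).2 ⟨x, rfl⟩

theorem Ext.ι_zero (X : Ext E) : X.ι 0 = 1 := by
  have := X.add 0 0
  rw [add_zero] at this
  exact mul_eq_left.1 this.symm

theorem Ext.ι_self (X : Ext E) (x : V) : X.ι x * X.ι x = 1 := by
  rw [← X.add, vec_self, X.ι_zero]

theorem Ext.ι_inv (X : Ext E) (x : V) : (X.ι x)⁻¹ = X.ι x := inv_eq_of_mul_eq_one_right (X.ι_self x)

theorem Ext.conjT (X : Ext E) {g : E} {t : ℕ} {gi : List ℕ} (hc : imgChk t gi = true)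
    (ht : IsTab t (X.π g : pG)) (x : V) : g * X.ι x = X.ι (actX gi x) * g := by
  rw [X.conj, mOf_tab hc ht]

theorem Ext.diff (X : Ext E) (a b : E) (h : X.π a = X.π b) : ∃ x, a = X.ι x * b := by
  obtain ⟨x, hx⟩ := (X.ker (a * b⁻¹)).1 (by rw [map_mul, map_inv, h, mul_inv_cancel])
  exact ⟨x, by rw [hx, inv_mul_cancel_right]⟩

/-- Lifts with the prescribed tables. -/
structure Lifts (X : Ext E) where
  /-- The generators. -/
  A : ℕ → E
  /-- The conjugating elements. -/
  G : ℕ → E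
  hA : ∀ k < 7, IsTab (elemT (2 ^ k)) (X.π (A k) : pG)
  hG : ∀ u < 3, IsTab (gT u) (X.π (G u) : pG)

theorem pow_lt (k : ℕ) (hk : k < 7) : (2 : ℕ) ^ k < 128 := by
  have : (2 : ℕ) ^ k ≤ 2 ^ 6 := Nat.pow_le_pow_right (by norm_num) (by omega)
  norm_num at this; omega

theorem imgs_ok : (∀ e < 128, imgChk (elemT e) (imgsOf e) = true) ∧
    ∀ u < 3, imgChk (gT u) (gI u) = true := by
  have hC := elemsOk_eq
  simp only [elemsOk, Bool.and_eq_true, List.all_eq_true, List.mem_range] at hC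
  exact ⟨hC.1.1.1, hC.1.1.2⟩

theorem exists_lifts (X : Ext E) : Nonempty (Lifts X) := by
  have hlift : ∀ t gi, imgChk t gi = true → ∃ e : E, IsTab t (X.π e : pG) := by
    intro t gi h
    simp only [imgChk, Bool.and_eq_true] at h
    obtain ⟨e, he⟩ := X.surj ⟨tabPerm t, M23Gen.Use.mem_of_tab h.1.1 (Nat.eq_of_beq_eq_true h.1.2)⟩
    exact ⟨e, by rw [he]; exact isTab_tabPerm h.1.1⟩
  choose f hf using hlift
  exact ⟨⟨fun k => if hk : k < 7 then f _ _ (imgs_ok.1 _ (pow_lt k hk)) else 1,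
    fun u => if hu : u < 3 then f _ _ (imgs_ok.2 u hu) else 1,
    fun k hk => by simp only [dif_pos hk]; exact hf _ _ _,
    fun u hu => by simp only [dif_pos hu]; exact hf _ _ _⟩⟩

theorem Lifts.isTab_eh {X : Ext E} (L : Lifts X) :
    ∀ n ≤ 7, ∀ e < 2 ^ n, IsTab (elemT e) (X.π (eh L.A n e) : pG) := by
  have hC := elemsOk_eq
  simp only [elemsOk, Bool.and_eq_true, List.all_eq_true, List.mem_range] at hC
  obtain ⟨⟨-, hC0⟩, hCm⟩ := hC
  intro n
  induction n with
  | zero =>
    intro _ e he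
    obtain rfl : e = 0 := by simpa using he
    rw [eh, map_one, Subgroup.coe_one, Nat.eq_of_beq_eq_true hC0]
    exact isTab_one
  | succ n ih =>
    intro hn e he
    rcases Nat.lt_or_ge e (2 ^ n) with h | h
    · rw [eh_low L.A h]; exact ih (by omega) e h
    · obtain ⟨e', rfl⟩ := Nat.exists_eq_add_of_le h
      have he' : e' < 2 ^ n := by rw [pow_succ] at he; omega
      rw [eh_high, map_mul, Subgroup.coe_mul, Nat.eq_of_beq_eq_true ((hCm n (by omega)).2 e' he')]
      exact isTab_mul (L.hA n (by omega)) (ih (by omega) e' he')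

theorem fullTgt_spec (A : ℕ → E) {j : ℕ} (hj : j < 7) {k : ℕ} (hk : k ≤ j) : fullTgt k j < 128 ∧
    eh A 7 (fullTgt k j) = if k = j then eh A j (tgt k j) else A j * eh A j (tgt k j) := by
  have hR := relOk_eq
  simp only [relOk, Bool.and_eq_true, List.all_eq_true, List.mem_range, Nat.blt_eq] at hR
  have hlt := (hR j hj k (by omega)).1.2
  have h2 : (2 : ℕ) ^ (j + 1) ≤ 128 := by
    have : (2 : ℕ) ^ (j + 1) ≤ 2 ^ 7 := Nat.pow_le_pow_right (by norm_num) (by omega)
    norm_num at this; omega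
  have h3 : (2 : ℕ) ^ (j + 1) = 2 ^ j + 2 ^ j := by rw [pow_succ]; ring
  rcases eq_or_ne k j with rfl | hne
  · have : fullTgt k k = tgt k k := by simp [fullTgt]
    rw [this, if_pos rfl]
    exact ⟨by omega, eh_mono A (by omega) hlt⟩
  · have hb : Nat.beq k j = false := by
      cases h : Nat.beq k j with
      | false => rfl
      | true => exact absurd (Nat.eq_of_beq_eq_true h) hne
    have : fullTgt k j = 2 ^ j + tgt k j := by simp [fullTgt, hb]
    rw [this, if_neg hne, eh_mono A (by omega : j + 1 ≤ 7) (by omega), eh_high]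
    exact ⟨by omega, rfl⟩

/-- An assignment giving the kernel parts. -/
def Vals {X : Ext E} (L : Lifts X) (v : ℕ → ZMod 2) : Prop :=
  (∀ j < 7, ∀ k ≤ j, L.A k * L.A j = X.ι (fv v (relF k j)) * eh L.A 7 (fullTgt k j)) ∧
    ∀ i < 192, L.G (cp i).1 * eh L.A 7 (cp i).2.1 =
      X.ι (fv v (cblock i)) * (eh L.A 7 (cp i).2.2 * L.G (cp i).1)

theorem exists_vals {X : Ext E} (L : Lifts X) : ∃ v, Vals L v := by
  obtain ⟨A, G, hA, hG⟩ := L
  have heh7 : ∀ e < 128, IsTab (elemT e) (X.π (eh A 7 e) : pG) :=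
    fun e he => Lifts.isTab_eh (⟨A, G, hA, hG⟩ : Lifts X) 7 le_rfl e he
  have hC := elemsOk_eq
  simp only [elemsOk, Bool.and_eq_true, List.all_eq_true, List.mem_range] at hC
  obtain ⟨⟨⟨hCe, hCg⟩, hC0⟩, hCm⟩ := hC
  have hR := relOk_eq
  simp only [relOk, Bool.and_eq_true, List.all_eq_true, List.mem_range, Nat.blt_eq] at hR
  have hdiff : ∀ (a b : E) (t : ℕ), IsTab t (X.π a : pG) → IsTab t (X.π b : pG) → ∃ x, a = X.ι x * b :=
    fun a b t ha hb => X.diff a b (Subtype.ext (ha.unique hb))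
  have hrelv : ∀ j, j < 7 → ∀ k, k ≤ j → ∃ x : V, A k * A j = X.ι x * eh A 7 (fullTgt k j) := by
    intro j hj k hk
    refine hdiff _ _ _ ?_ (heh7 _ (fullTgt_spec A hj hk).1)
    rw [map_mul, Subgroup.coe_mul, ← Nat.eq_of_beq_eq_true (hR j hj k (by omega)).2,
      Nat.eq_of_beq_eq_true (hCm k (by omega)).1, Nat.eq_of_beq_eq_true (hCm j hj).1]
    exact isTab_mul (hA k (by omega)) (hA j hj)
  choose rx hrx using hrelv
  have hK := conjOk_eq
  simp only [conjOk, Bool.and_eq_true, List.all_eq_true, List.mem_range, Nat.blt_eq] at hK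
  have hcv : ∀ i, i < 192 → ∃ x : V,
      G (cp i).1 * eh A 7 (cp i).2.1 = X.ι x * (eh A 7 (cp i).2.2 * G (cp i).1) := by
    intro i hi
    obtain ⟨⟨⟨h1, h2⟩, h3⟩, h4⟩ := hK i hi
    refine hdiff _ _ (mulTab (gT (cp i).1) (elemT (cp i).2.1)) ?_ ?_
    · rw [map_mul, Subgroup.coe_mul]; exact isTab_mul (hG _ h1) (heh7 _ h2)
    · rw [Nat.eq_of_beq_eq_true h4, map_mul, Subgroup.coe_mul]; exact isTab_mul (heh7 _ h3) (hG _ h1)
  choose cx hcx using hcv
  let blockVal : ℕ → V := fun b =>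
    if b < 28 then
      (if h : (relPairs.getD b (0, 0)).2 < 7 ∧ (relPairs.getD b (0, 0)).1 ≤ (relPairs.getD b (0, 0)).2
        then rx _ h.1 _ h.2 else 0)
    else (if h : b - 28 < 192 then cx _ h else 0)
  let v : ℕ → ZMod 2 := fun i => blockVal (i / 11) ⟨i % 11, Nat.mod_lt _ (by norm_num)⟩
  have hvar : ∀ b < 220, fv v (varF b) = blockVal b := fun b hb => by
    rw [fv_var v hb]
    funext i
    have h1 : (b * 11 + i.1) / 11 = b := by have := i.2; omega
    have h2 : (b * 11 + i.1) % 11 = i.1 := by have := i.2; omega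
    show blockVal ((b * 11 + i.1) / 11) ⟨(b * 11 + i.1) % 11, _⟩ = _
    simp only [h1, h2]
  have hrelF : ∀ j (hj : j < 7) k (hk : k ≤ j), fv v (relF k j) = rx j hj k hk := by
    intro j hj k hk
    obtain ⟨⟨⟨hb, hp⟩, -⟩, -⟩ := hR j hj k (by omega)
    rw [relF, hvar _ (by omega)]
    rw [beq_iff_eq] at hp
    have key : ∀ q : ℕ × ℕ, q = (k, j) →
        (if h : q.2 < 7 ∧ q.1 ≤ q.2 then rx _ h.1 _ h.2 else 0) = rx j hj k hk := by
      rintro q rfl; rw [dif_pos ⟨hj, hk⟩]
    exact (if_pos hb).trans (key _ hp)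
  have hcF : ∀ o (ho : o < 192), fv v (cblock o) = cx o ho := fun o ho => by
    rw [cblock, hvar _ (by omega)]
    have key : ∀ q, q = o → (if h : q < 192 then cx _ h else 0) = cx o ho := by
      rintro q rfl; rw [dif_pos ho]
    exact (if_neg (by omega)).trans (key _ (Nat.add_sub_cancel_left 28 o))
  exact ⟨v, fun j hj k hk => by rw [hrelF j hj k hk]; exact hrx j hj k hk,
    fun i hi => by rw [hcF i hi]; exact hcx i hi⟩

theorem complement [Finite E] {X : Ext E} (L : Lifts X) {v : ℕ → ZMod 2} (hv : Vals L v)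
    (hlam : rv v lamRow = 0) : ∃ H : Subgroup E, H ⊓ X.π.ker = ⊥ ∧ H ⊔ X.π.ker = ⊤ := by
  classical
  obtain ⟨A, G, hA, hG⟩ := L
  have heh7 : ∀ e < 128, IsTab (elemT e) (X.π (eh A 7 e) : pG) :=
    fun e he => Lifts.isTab_eh (⟨A, G, hA, hG⟩ : Lifts X) 7 le_rfl e he
  have hC := elemsOk_eq
  simp only [elemsOk, Bool.and_eq_true, List.all_eq_true, List.mem_range] at hC
  obtain ⟨⟨⟨hCe, hCg⟩, hC0⟩, hCm⟩ := hC
  have hR := relOk_eq
  simp only [relOk, Bool.and_eq_true, List.all_eq_true, List.mem_range, Nat.blt_eq] at hR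
  obtain ⟨hrel, hcx⟩ := hv
  set ι := X.ι with hιdef
  set N := X.π.ker with hNdef
  have hιN : ∀ x, ι x ∈ N := X.map_ι
  have hιadd : ∀ x y, ι (x + y) = ι x * ι y := X.add
  have hι0 : ι 0 = 1 := X.ι_zero
  have hιinj : ∀ x, ι x = 1 → x = 0 := X.inj
  have hι2 : ∀ x, ι x * ι x = 1 := X.ι_self
  have hιsurj : ∀ e ∈ N, ∃ x, ι x = e := fun e he => (X.ker e).1 he
  have hproj1 : ∀ {e : E}, X.π e = 1 ↔ e ∈ N := fun {e} => Iff.rfl
  haveI : IsMulCommutative ↥N := isMulCommutative_iff.mpr fun a b => by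
    obtain ⟨x, hx⟩ := hιsurj _ a.2
    obtain ⟨y, hy⟩ := hιsurj _ b.2
    apply Subtype.ext
    rw [Subgroup.coe_mul, Subgroup.coe_mul, ← hx, ← hy, ← hιadd, ← hιadd, add_comm]
  have hconj : ∀ (g : E) (t : ℕ) (gi : List ℕ), imgChk t gi = true →
      IsTab t (X.π g : pG) → ∀ x, g * ι x = ι (actX gi x) * g := fun g t gi hc ht x => X.conjT hc ht x
  have hpow : ∀ k < 7, (2 : ℕ) ^ k < 128 := pow_lt
  have hfull : ∀ j < 7, ∀ k ≤ j, fullTgt k j < 128 ∧
      eh A 7 (fullTgt k j) = if k = j then eh A j (tgt k j) else A j * eh A j (tgt k j) :=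
    fun j hj k hk => fullTgt_spec A hj hk
  have hK := conjOk_eq
  simp only [conjOk, Bool.and_eq_true, List.all_eq_true, List.mem_range, Nat.blt_eq] at hK
  have hAct : ∀ k < 7, ∀ x, A k * ι x = ι (actX (imgsOf (2 ^ k)) x) * A k := fun k hk =>
    hconj _ _ _ (hCe _ (hpow k hk)) (hA k hk)
  have S : Setting ι A v := ⟨hιadd, hAct, fun j hj k hk => by
    rw [← (hfull j hj k hk).2]; exact hrel j hj k hk⟩
  have cancel : ∀ {x y : V} {a : E}, ι x * a = ι y * a → x + y = 0 := fun {x y a} h => hιinj _ (by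
    rw [hιadd, mul_right_cancel h, hι2])
  have hQ := eqsOk_eq
  simp only [eqsOk, List.all_eq_true, List.mem_range] at hQ
  have hrow : ∀ m < 327, rv v (Data.eqRows.getD m 0) = 0 := by
    intro m hm'
    rcases (show m < 326 ∨ m = 326 by omega) with hm | rfl
    swap
    · exact hlam
    have h := hQ m hm
    generalize hw : Data.eqRows.getD m 0 = row at h
    generalize Data.eqs.getD m (0, 0, 0, 0, 0) = e at h
    obtain ⟨kind, a, b, c, r⟩ := e
    simp only [eqChk, Bool.and_eq_true, Nat.blt_eq] at h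
    obtain ⟨hr, h⟩ := h
    rcases Nat.eq_zero_or_pos kind with rfl | hkind
    · simp only [Nat.beq, cond_true, Bool.and_eq_true, Nat.blt_eq] at h
      obtain ⟨⟨⟨⟨ha, hb⟩, hc⟩, hrow⟩, hres⟩ := h
      have a' := hpow a ha
      have b' := hpow b hb
      have c' := hpow c hc
      obtain ⟨l1, e1⟩ := S.mul_spec a' b'
      obtain ⟨-, e2⟩ := S.mul_spec l1 c'
      obtain ⟨l3, e3⟩ := S.mul_spec b' c'
      obtain ⟨-, e4⟩ := S.mul_spec a' l3
      have hkey : fv v (assocF (2 ^ a) (2 ^ b) (2 ^ c)) = 0 := by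
        have key := mul_assoc (eh A 7 (2 ^ a)) (eh A 7 (2 ^ b)) (eh A 7 (2 ^ c))
        rw [e1, mul_assoc, e2, ← mul_assoc, ← hιadd, e3, ← mul_assoc,
          hconj _ _ _ (hCe _ a') (heh7 _ a'), mul_assoc, e4, ← mul_assoc, ← hιadd,
          Nat.eq_of_beq_eq_true hres] at key
        rw [assocF, fv_add, fv_add, fv_add, fv_act]
        exact cancel key
      have := congrFun hkey ⟨r, hr⟩
      rw [← Nat.eq_of_beq_eq_true hrow]
      exact this
    · have hk : Nat.beq kind 0 = false := by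
        cases kind with
        | zero => omega
        | succ n => rfl
      simp only [hk, cond_false, Bool.and_eq_true, Nat.blt_eq] at h
      obtain ⟨⟨⟨⟨⟨⟨⟨ha, hb⟩, hc⟩, hrow⟩, hu2⟩, hu3⟩, hz⟩, hz'⟩ := h
      obtain ⟨⟨⟨hu, hq⟩, hi⟩, -⟩ := hK a ha
      obtain ⟨⟨⟨-, hq2⟩, hi2⟩, -⟩ := hK b hb
      obtain ⟨-, e1⟩ := S.mul_spec hq hq2
      obtain ⟨-, e2⟩ := S.mul_spec hi hi2
      have c1 := hcx a ha
      have c2 := hcx b hb
      have c3 := hcx c hc
      rw [Nat.eq_of_beq_eq_true hu2] at c2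
      rw [Nat.eq_of_beq_eq_true hu3] at c3
      have key := (mul_assoc (G (cp a).1) (eh A 7 (cp a).2.1) (eh A 7 (cp b).2.1)).symm
      rw [e1, ← mul_assoc, hconj _ _ _ (hCg _ hu) (hG _ hu), mul_assoc, Nat.eq_of_beq_eq_true hz, c3,
        c1] at key
      have key2 : ι (fv v (cblock a)) * (eh A 7 (cp a).2.2 * G (cp a).1) * eh A 7 (cp b).2.1 =
          ι (fv v (cblock a) + actX (imgsOf (cp a).2.2) (fv v (cblock b)) +
            fv v (mulNF 7 (cp a).2.2 (cp b).2.2).2) * (eh A 7 (cp c).2.2 * G (cp a).1) := by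
        rw [mul_assoc, mul_assoc (eh A 7 (cp a).2.2), c2, ← mul_assoc (eh A 7 (cp a).2.2),
          hconj _ _ _ (hCe _ hi) (heh7 _ hi), mul_assoc (ι (actX _ _)), ← mul_assoc (eh A 7 (cp a).2.2),
          e2, Nat.eq_of_beq_eq_true hz', hιadd, hιadd]
        simp only [mul_assoc]
      rw [key2, ← mul_assoc (ι (actX _ _)), ← hιadd] at key
      have hkey : fv v (stabF a b c) = 0 := by
        rw [stabF, fv_add, fv_add, fv_add, fv_add, fv_act, fv_act]
        exact cancel key
      have := congrFun hkey ⟨r, hr⟩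
      rw [← Nat.eq_of_beq_eq_true hrow]
      exact this
  have hres : ∀ j < 7, ∀ k ≤ j, fv v (resF k j) = 0 := by
    intro j hj k hk
    funext i
    have h := resOk_eq
    simp only [resOk, List.all_eq_true, List.mem_range] at h
    show rv v _ = 0
    rw [Nat.eq_of_beq_eq_true (h j hj k (by omega) i.1 i.2), rv_selXor]
    exact Finset.sum_eq_zero fun m hm => by rw [hrow m (Finset.mem_range.1 hm)]; exact ite_self _
  -- corrected lifts
  let B : ℕ → E := fun k => ι (fv v (fixF k)) * A k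
  have hBe : ∀ n ≤ 7, ∀ e < 2 ^ n, eh B n e = ι (fv v (hF n e)) * eh A n e := by
    intro n
    induction n with
    | zero => intro _ e _; rw [eh, eh, hF, fv_nil, hι0, mul_one]
    | succ n ih =>
      intro hn e he
      rcases Nat.lt_or_ge e (2 ^ n) with h | h
      · rw [eh_low B h, eh_low A h, hF, if_neg (by omega)]; exact ih (by omega) e h
      · obtain ⟨e', rfl⟩ := Nat.exists_eq_add_of_le h
        have he' : e' < 2 ^ n := by rw [pow_succ] at he; omega
        rw [eh_high, eh_high, hF, if_pos (by omega), Nat.add_sub_cancel_left, fv_add, fv_act, hιadd,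
          ih (by omega) e' he']
        show ι _ * A n * (ι _ * eh A n e') = _
        rw [mul_assoc, ← mul_assoc (A n), hAct n (by omega), mul_assoc, mul_assoc]
  have hBact : ∀ k < 7, ∀ x, B k * ι x = ι (actX (imgsOf (2 ^ k)) x) * B k := fun k hk x => by
    show ι _ * A k * ι x = ι _ * (ι _ * A k)
    rw [mul_assoc, hAct k hk, ← mul_assoc, ← hιadd, ← mul_assoc, ← hιadd, add_comm]
  have SB : Setting ι B (fun _ => 0) := ⟨hιadd, hBact, fun j hj k hk => by
    rw [fv_zero_fun, hι0, one_mul]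
    obtain ⟨hlt, hfe⟩ := hfull j hj k hk
    have h1 : B k * B j = ι (fv v (fixF k) + actX (imgsOf (2 ^ k)) (fv v (fixF j)) + fv v (relF k j)) *
        eh A 7 (fullTgt k j) := by
      show ι _ * A k * (ι _ * A j) = _
      rw [mul_assoc, ← mul_assoc (A k), hAct k (by omega), mul_assoc, hrel j hj k hk,
        hιadd, hιadd]
      simp only [mul_assoc]
    have h2 : fv v (fixF k) + actX (imgsOf (2 ^ k)) (fv v (fixF j)) + fv v (relF k j) =
        fv v (hF 7 (fullTgt k j)) := by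
      have h0 := hres j hj k hk
      rw [resF, fv_add, fv_add, fv_add, fv_act] at h0
      funext i
      have h00 := congrFun h0 i
      have two : (2 : ZMod 2) = 0 := by decide
      simp only [Pi.add_apply, Pi.zero_apply] at h00 ⊢
      linear_combination h00 - fv v (hF 7 (fullTgt k j)) i * two
    rw [h1, h2, ← hBe 7 le_rfl _ hlt]
    rcases eq_or_ne k j with rfl | hne
    · have : fullTgt k k = tgt k k := by simp [fullTgt]
      rw [this, if_pos rfl, eh_mono B (by omega) (hR k hj k (by omega)).1.2]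
    · have hlt' := (hR j hj k (by omega)).1.2
      have hb : Nat.beq k j = false := by
        cases h : Nat.beq k j with
        | false => rfl
        | true => exact absurd (Nat.eq_of_beq_eq_true h) hne
      have : fullTgt k j = 2 ^ j + tgt k j := by simp [fullTgt, hb]
      rw [this, if_neg hne, eh_mono B (by omega : j + 1 ≤ 7) (by rw [pow_succ]; omega), eh_high]⟩
  -- a complement over the Sylow subgroup
  let P : Subgroup E :=
    { carrier := {g | ∃ e < 128, g = eh B 7 e}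
      one_mem' := ⟨0, by norm_num, by rw [eh_mono B (Nat.zero_le 7) (by norm_num : 0 < 2 ^ 0), eh]⟩
      mul_mem' := by
        rintro _ _ ⟨x, hx, rfl⟩ ⟨y, hy, rfl⟩
        obtain ⟨h1, h2⟩ := SB.mul_spec hx hy
        exact ⟨_, h1, by rw [h2, fv_zero_fun, hι0, one_mul]⟩
      inv_mem' := by
        rintro g ⟨x, hx, rfl⟩
        rw [← zpow_neg_one]
        obtain ⟨n, hn⟩ := (mem_powers_iff_mem_zpowers (x := eh B 7 x)).2
          (Subgroup.zpow_mem_zpowers (eh B 7 x) (-1))
        rw [← hn]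
        clear hn
        induction n with
        | zero => exact ⟨0, by norm_num, by show eh B 7 x ^ 0 = _; rw [pow_zero, eh_mono B (Nat.zero_le 7) (by norm_num : 0 < 2 ^ 0), eh]⟩
        | succ n ih =>
          obtain ⟨y, hy, hye⟩ := ih
          obtain ⟨h1, h2⟩ := SB.mul_spec hy hx
          exact ⟨_, h1, by
            show eh B 7 x ^ (n + 1) = _
            rw [pow_succ, show eh B 7 x ^ n = eh B 7 y from hye, h2, fv_zero_fun, hι0, one_mul]⟩ }
  have hprojB : ∀ e < 128, X.π (eh B 7 e) = X.π (eh A 7 e) := fun e he => by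
    rw [hBe 7 le_rfl e he, map_mul, hproj1.2 (hιN _), one_mul]
  have hnf : ∀ e < 128, X.π (eh B 7 e) = 1 → e = 0 := by
    intro e he h1
    by_contra hne
    obtain ⟨d, rfl⟩ := Nat.exists_eq_succ_of_ne_zero hne
    have h := nfOk_eq
    simp only [nfOk, List.all_eq_true, List.mem_range, Bool.not_eq_true'] at h
    have h2 := h d (by omega)
    rw [Bool.eq_false_iff] at h2
    refine h2 (List.all_eq_true.2 fun i hi => ?_)
    rw [hprojB _ he] at h1
    have := heh7 _ he (pt i)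
    rw [h1, Subgroup.coe_one, Equiv.Perm.one_apply, ix_pt (List.mem_range.1 hi)] at this
    rw [← this]
    exact Nat.beq_refl i
  have hPN : P ⊓ N = ⊥ := by
    rw [eq_bot_iff]
    rintro g ⟨⟨e, he, rfl⟩, hgN⟩
    rw [Subgroup.mem_bot, hnf e he (hproj1.2 hgN),
      eh_mono B (Nat.zero_le 7) (by norm_num : 0 < 2 ^ 0), eh]
  set U := N ⊔ P
  have hker : (X.π).ker = N := by ext g; exact hproj1
  have hUidx : Odd U.index := by
    have hUmap : U.map (X.π) = P.map (X.π) := by
      rw [Subgroup.map_sup, (Subgroup.map_eq_bot_iff _).2 hker.ge, bot_sup_eq]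
    have hU : U.index = (P.map (X.π)).index := by
      rw [← hUmap, Subgroup.index_map_eq _ X.surj]
      rw [hker]; exact le_sup_left
    have hcard : Nat.card (P.map (X.π)) = 128 := by
      have hbij : Function.Bijective (fun e : Fin 128 =>
          (⟨X.π (eh B 7 e.1), _, ⟨e.1, e.2, rfl⟩, rfl⟩ : P.map (X.π))) := by
        refine ⟨fun a b hab => ?_, ?_⟩
        · have hab' : X.π (eh B 7 a.1) = X.π (eh B 7 b.1) := congrArg Subtype.val hab
          rw [hprojB _ a.2, hprojB _ b.2] at hab'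
          have hD := distinctOk_eq
          simp only [distinctOk, Bool.and_eq_true, List.all_eq_true, List.mem_range, Bool.or_eq_true,
            Bool.not_eq_true'] at hD
          have ht := heh7 _ b.2
          rw [← hab'] at ht
          have he := eq_of_isTab (hD a.1 a.2).1 (hD b.1 b.2).1 (heh7 _ a.2) ht
          rcases (hD a.1 a.2).2 b.1 b.2 with h | h
          · rw [he, show Nat.beq (elemT b.1) (elemT b.1) = true from Nat.beq_refl _] at h
            exact Bool.noConfusion h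
          · exact Fin.ext (Nat.eq_of_beq_eq_true h)
        · rintro ⟨_, g, ⟨e, he, rfl⟩, rfl⟩; exact ⟨⟨e, he⟩, rfl⟩
      rw [← Nat.card_eq_of_bijective _ hbij, Nat.card_fin]
    have hmul := Subgroup.card_mul_index (P.map (X.π))
    rw [hcard, M23Gen.Use.card_M23] at hmul
    rw [hU]
    have : (P.map (X.π)).index = 79695 := by omega
    rw [this]; decide
  have hcop : (Nat.card ↥N).Coprime U.index := by
    have h2 : IsPGroup 2 ↥N := fun n => ⟨1, by
      obtain ⟨x, hx⟩ := hιsurj _ n.2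
      apply Subtype.ext
      rw [pow_one, sq, Subgroup.coe_mul, ← hx, hι2]; rfl⟩
    obtain ⟨a, ha⟩ := IsPGroup.iff_card.1 h2
    rw [ha]
    exact Nat.Coprime.pow_left _ (Nat.coprime_two_left.2 hUidx)
  obtain ⟨H, hH⟩ := Cfsg.Agent.Solvable.Gaschutz.exists_complement' (K := N) (U := U) (A := P)
    le_sup_left hcop le_sup_right hPN rfl
  exact ⟨H, by rw [inf_comm]; exact disjoint_iff.1 hH.disjoint, by rw [sup_comm]; exact hH.sup_eq_top⟩

end

/-! ### Fibre products -/

theorem eh_map {E F : Type*} [Group E] [Group F] (f : E →* F) (A : ℕ → E) : ∀ n e,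
    f (eh A n e) = eh (fun k => f (A k)) n e
  | 0, _ => map_one f
  | n + 1, e => by
    rw [eh, eh]
    split_ifs
    · rw [map_mul, eh_map f A n]
    · exact eh_map f A n e

theorem eh_congr {E : Type*} [Group E] {A B : ℕ → E} : ∀ n, (∀ k < n, A k = B k) → ∀ e,
    eh A n e = eh B n e
  | 0, _, _ => rfl
  | n + 1, h, e => by
    rw [eh, eh, eh_congr n (fun k hk => h k (by omega)), eh_congr n (fun k hk => h k (by omega)),
      h n (by omega)]

section Pullback

variable {E E' : Type*} [Group E] [Group E'] (X : Ext E) (X' : Ext E')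

/-- The fibre product. -/
def pb : Subgroup (E × E') :=
  (X.π.comp (MonoidHom.fst E E')).eqLocus (X'.π.comp (MonoidHom.snd E E'))

theorem mem_pb {p : E × E'} : p ∈ pb X X' ↔ X.π p.1 = X'.π p.2 := Iff.rfl

/-- The diagonal kernel. -/
def diag : Subgroup ↥(pb X X') where
  carrier := {p | ∃ x, X.ι x = p.1.1 ∧ X'.ι x = p.1.2}
  one_mem' := ⟨0, X.ι_zero, X'.ι_zero⟩
  mul_mem' := by
    rintro p q ⟨x, h1, h2⟩ ⟨y, h3, h4⟩
    exact ⟨x + y, by rw [X.add, h1, h3]; rfl, by rw [X'.add, h2, h4]; rfl⟩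
  inv_mem' := by
    rintro p ⟨x, h1, h2⟩
    exact ⟨x, (X.ι_inv x).symm.trans (congrArg (·⁻¹) h1), (X'.ι_inv x).symm.trans (congrArg (·⁻¹) h2)⟩

instance diag_normal : (diag X X').Normal where
  conj_mem := by
    rintro n ⟨x, h1, h2⟩ ⟨⟨a, b⟩, hab⟩
    have hab' : X.π a = X'.π b := hab
    refine ⟨mOf (X.π a : pG) x, ?_, ?_⟩
    · show _ = a * n.1.1 * a⁻¹
      rw [← h1, X.conj, mul_inv_cancel_right]
    · show _ = b * n.1.2 * b⁻¹
      rw [← h2, X'.conj, mul_inv_cancel_right, hab']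

/-- The sum of two extensions. -/
abbrev Sum₂ : Type _ := ↥(pb X X') ⧸ diag X X'

/-- Its projection. -/
def πF : Sum₂ X X' →* ↥Spor.M23 :=
  QuotientGroup.lift (diag X X') ((X.π.comp (MonoidHom.fst E E')).comp (pb X X').subtype)
    (by
      rintro p ⟨x, h1, -⟩
      show X.π p.1.1 = 1
      rw [← h1]; exact X.map_ι x)

/-- Its kernel map. -/
def ιF (x : V) : Sum₂ X X' :=
  QuotientGroup.mk ⟨(X.ι x, 1), (X.map_ι x).trans (map_one X'.π).symm⟩

theorem mk_eq (p q : ↥(pb X X')) (x y : V) (h1 : p.1.1 = X.ι x * q.1.1) (h2 : p.1.2 = X'.ι y * q.1.2) :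
    (QuotientGroup.mk p : Sum₂ X X') = ιF X X' (x + y) * QuotientGroup.mk q := by
  rw [ιF, ← QuotientGroup.mk_mul, QuotientGroup.eq]
  set σ : pG := ((X.π q.1.1 : ↥Spor.M23) : pG)⁻¹
  refine ⟨mOf σ y, ?_, ?_⟩
  · show _ = p.1.1⁻¹ * (X.ι (x + y) * q.1.1)
    rw [h1, mul_inv_rev, X.ι_inv, mul_assoc, ← mul_assoc (X.ι x), ← X.add, ← add_assoc, vec_self,
      zero_add, ← mul_assoc]
    have h := X.conj q.1.1⁻¹ y
    rw [map_inv] at h
    show X.ι (mOf σ y) = _
    rw [h, inv_mul_cancel_right]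
    rfl
  · show _ = p.1.2⁻¹ * (1 * q.1.2)
    rw [h2, one_mul, mul_inv_rev, X'.ι_inv]
    have h := X'.conj q.1.2⁻¹ y
    rw [map_inv, ← show X.π q.1.1 = X'.π q.1.2 from q.2] at h
    rw [h, inv_mul_cancel_right]
    rfl

theorem mem_shift (p : ↥(pb X X')) (x : V) : (p.1.1 * X.ι x, p.1.2) ∈ pb X X' := by
  rw [mem_pb, map_mul, X.map_ι, mul_one]
  exact p.2

/-- The sum as an extension. -/
def pbExt : Ext (Sum₂ X X') where
  π := πF X X'
  ι := ιF X X'
  surj g := by
    obtain ⟨a, ha⟩ := X.surj g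
    obtain ⟨b, hb⟩ := X'.surj g
    exact ⟨QuotientGroup.mk ⟨(a, b), ha.trans hb.symm⟩, ha⟩
  add x y := by
    simp only [ιF, ← QuotientGroup.mk_mul]
    exact congrArg QuotientGroup.mk (Subtype.ext (Prod.ext (X.add x y) (one_mul _).symm))
  inj x h := by
    obtain ⟨y, h1, h2⟩ := (QuotientGroup.eq_one_iff _).1 h
    have hy : y = 0 := X'.inj y h2
    rw [hy, X.ι_zero] at h1
    exact X.inj x h1.symm
  ker e := by
    induction e using QuotientGroup.induction_on with
    | _ p =>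
      constructor
      · intro h
        obtain ⟨x, hx⟩ := (X.ker p.1.1).1 h
        obtain ⟨y, hy⟩ := (X'.ker p.1.2).1 (p.2.symm.trans h)
        refine ⟨x + y, ?_⟩
        have := mk_eq X X' p 1 x y (by rw [← hx]; exact (mul_one _).symm) (by rw [← hy]; exact (mul_one _).symm)
        rw [this, QuotientGroup.mk_one, mul_one]
      · rintro ⟨x, hx⟩
        rw [← hx]
        exact X.map_ι x
  conj g x := by
    induction g using QuotientGroup.induction_on with
    | _ p =>
      simp only [ιF, ← QuotientGroup.mk_mul]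
      refine congrArg QuotientGroup.mk (Subtype.ext (Prod.ext (X.conj p.1.1 x) ?_))
      show p.1.2 * 1 = 1 * p.1.2
      rw [mul_one, one_mul]

theorem iso_of_nonsplit [Finite E] [Finite E']
    (hns : ∀ H : Subgroup E, H ⊓ X.π.ker = ⊥ → H ⊔ X.π.ker ≠ ⊤)
    (hns' : ∀ H : Subgroup E', H ⊓ X'.π.ker = ⊥ → H ⊔ X'.π.ker ≠ ⊤) : Nonempty (E ≃* E') := by
  classical
  obtain ⟨L⟩ := exists_lifts X
  obtain ⟨L'⟩ := exists_lifts X'
  obtain ⟨v, hv⟩ := exists_vals L
  obtain ⟨v', hv'⟩ := exists_vals L'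
  have z2 : ∀ a : ZMod 2, a ≠ 0 → a = 1 := by decide
  have hl : rv v lamRow = 1 := z2 _ fun h => by
    obtain ⟨H, h1, h2⟩ := complement L hv h
    exact hns H h1 h2
  have hl' : rv v' lamRow = 1 := z2 _ fun h => by
    obtain ⟨H, h1, h2⟩ := complement L' hv' h
    exact hns' H h1 h2
  have hmA : ∀ k < 7, (L.A k, L'.A k) ∈ pb X X' := fun k hk =>
    Subtype.ext ((L.hA k hk).unique (L'.hA k hk))
  have hmG : ∀ u < 3, (L.G u, L'.G u) ∈ pb X X' := fun u hu =>
    Subtype.ext ((L.hG u hu).unique (L'.hG u hu))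
  let pA : ℕ → ↥(pb X X') := fun k => if hk : k < 7 then ⟨_, hmA k hk⟩ else 1
  let pG' : ℕ → ↥(pb X X') := fun u => if hu : u < 3 then ⟨_, hmG u hu⟩ else 1
  have eA : ∀ k < 7, (pA k).1 = (L.A k, L'.A k) := fun k hk => by simp [pA, dif_pos hk]
  have eG : ∀ u < 3, (pG' u).1 = (L.G u, L'.G u) := fun u hu => by simp [pG', dif_pos hu]
  have eh1 : ∀ e, (eh pA 7 e).1.1 = eh L.A 7 e := fun e =>
    (eh_map ((MonoidHom.fst E E').comp (pb X X').subtype) pA 7 e).trans
      (eh_congr 7 (fun k hk => congrArg Prod.fst (eA k hk)) e)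
  have eh2 : ∀ e, (eh pA 7 e).1.2 = eh L'.A 7 e := fun e =>
    (eh_map ((MonoidHom.snd E E').comp (pb X X').subtype) pA 7 e).trans
      (eh_congr 7 (fun k hk => congrArg Prod.snd (eA k hk)) e)
  let q : ↥(pb X X') →* Sum₂ X X' := QuotientGroup.mk' (diag X X')
  let LF : Lifts (pbExt X X') := ⟨fun k => q (pA k), fun u => q (pG' u),
    fun k hk => by
      show IsTab _ ((X.π (pA k).1.1 : ↥Spor.M23) : pG)
      rw [eA k hk]; exact L.hA k hk,
    fun u hu => by
      show IsTab _ ((X.π (pG' u).1.1 : ↥Spor.M23) : pG)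
      rw [eG u hu]; exact L.hG u hu⟩
  have eF : ∀ e, eh LF.A 7 e = q (eh pA 7 e) := fun e => (eh_map q pA 7 e).symm
  have hK := conjOk_eq
  simp only [conjOk, Bool.and_eq_true, List.all_eq_true, List.mem_range, Nat.blt_eq] at hK
  have hvF : Vals LF (v + v') := by
    refine ⟨fun j hj k hk => ?_, fun i hi => ?_⟩
    · rw [eF, fv_vadd]
      show q (pA k) * q (pA j) = _
      rw [← map_mul]
      refine mk_eq X X' _ _ _ _ ?_ ?_
      · show (pA k).1.1 * (pA j).1.1 = _
        rw [eA k (by omega), eA j hj, eh1]; exact hv.1 j hj k hk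
      · show (pA k).1.2 * (pA j).1.2 = _
        rw [eA k (by omega), eA j hj, eh2]; exact hv'.1 j hj k hk
    · have hu := (hK i hi).1.1.1
      rw [eF, eF, fv_vadd]
      show q (pG' _) * q _ = _ * (q _ * q (pG' _))
      rw [← map_mul, ← map_mul]
      refine mk_eq X X' _ _ _ _ ?_ ?_
      · show (pG' _).1.1 * (eh pA 7 _).1.1 = _ * ((eh pA 7 _).1.1 * (pG' _).1.1)
        rw [eG _ hu, eh1, eh1]; exact hv.2 i hi
      · show (pG' _).1.2 * (eh pA 7 _).1.2 = _ * ((eh pA 7 _).1.2 * (pG' _).1.2)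
        rw [eG _ hu, eh2, eh2]; exact hv'.2 i hi
  obtain ⟨H, hH1, hH2⟩ := complement LF hvF (by rw [rv_add, hl, hl']; decide)
  have hH0 : ∀ (p : ↥(pb X X')), p ∈ H.comap q → ∀ x, q p = ιF X X' x → x = 0 := by
    intro p hp x hx
    have : ιF X X' x ∈ H ⊓ (pbExt X X').π.ker :=
      ⟨hx ▸ hp, ((pbExt X X').ker _).2 ⟨x, rfl⟩⟩
    rw [hH1, Subgroup.mem_bot] at this
    exact (pbExt X X').inj x this
  have hdiag : ∀ p ∈ diag X X', p ∈ H.comap q := fun p hp => by
    show q p ∈ H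
    rw [show q p = 1 from (QuotientGroup.eq_one_iff p).2 hp]; exact H.one_mem
  let H' := H.comap q
  let f : ↥H' →* E := ((MonoidHom.fst E E').comp (pb X X').subtype).comp H'.subtype
  let f' : ↥H' →* E' := ((MonoidHom.snd E E').comp (pb X X').subtype).comp H'.subtype
  have hcov : ∀ p : ↥(pb X X'), ∃ x, ⟨(p.1.1 * X.ι x, p.1.2), mem_shift X X' p x⟩ ∈ H' := by
    intro p
    have hp : q p ∈ H ⊔ (pbExt X X').π.ker := by rw [hH2]; trivial
    obtain ⟨h, hh, n, hn, hpn⟩ := Subgroup.mem_sup_of_normal_right.1 hp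
    obtain ⟨x, rfl⟩ := ((pbExt X X').ker n).1 hn
    refine ⟨x, ?_⟩
    show q _ ∈ H
    have : q ⟨(p.1.1 * X.ι x, p.1.2), mem_shift X X' p x⟩ = q p * ιF X X' x := by
      show q _ = q p * q ⟨(X.ι x, 1), (X.map_ι x).trans (map_one X'.π).symm⟩
      refine Eq.trans ?_ (map_mul q _ _)
      exact congrArg q (Subtype.ext (Prod.ext rfl (mul_one _).symm))
    rw [this, ← hpn, mul_assoc]
    show h * ((pbExt X X').ι x * (pbExt X X').ι x) ∈ H
    rw [Ext.ι_self, mul_one]; exact hh
  have hf : Function.Bijective f := by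
    refine ⟨(injective_iff_map_eq_one _).2 fun p hp => ?_, fun a => ?_⟩
    · have h1 : p.1.1.1 = 1 := hp
      obtain ⟨y, hy⟩ := (X'.ker p.1.1.2).1 (by
        have := p.1.2; rw [mem_pb, h1, map_one] at this; exact this.symm)
      have hz := hH0 p.1 p.2 (0 + y) (by
        have := mk_eq X X' p.1 1 0 y (by rw [h1, X.ι_zero]; exact (mul_one _).symm)
          (by rw [← hy]; exact (mul_one _).symm)
        rw [QuotientGroup.mk_one, mul_one] at this; exact this)
      rw [zero_add] at hz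
      rw [hz, X'.ι_zero] at hy
      exact Subtype.ext (Subtype.ext (Prod.ext h1 hy.symm))
    · obtain ⟨b, hb⟩ := X'.surj (X.π a)
      obtain ⟨x, hx⟩ := hcov ⟨(a, b), hb.symm⟩
      have hd : (⟨(X.ι x, X'.ι x), (X.map_ι x).trans (X'.map_ι x).symm⟩ : ↥(pb X X')) ∈ H' :=
        hdiag _ ⟨x, rfl, rfl⟩
      refine ⟨⟨_, H'.mul_mem hx hd⟩, ?_⟩
      show a * X.ι x * X.ι x = a
      rw [mul_assoc, X.ι_self, mul_one]
  have hf' : Function.Bijective f' := by
    refine ⟨(injective_iff_map_eq_one _).2 fun p hp => ?_, fun b => ?_⟩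
    · have h1 : p.1.1.2 = 1 := hp
      obtain ⟨y, hy⟩ := (X.ker p.1.1.1).1 (by
        have := p.1.2; rw [mem_pb, h1, map_one] at this; exact this)
      have hz := hH0 p.1 p.2 (y + 0) (by
        have := mk_eq X X' p.1 1 y 0 (by rw [← hy]; exact (mul_one _).symm)
          (by rw [h1, X'.ι_zero]; exact (mul_one _).symm)
        rw [QuotientGroup.mk_one, mul_one] at this; exact this)
      rw [add_zero] at hz
      rw [hz, X.ι_zero] at hy
      exact Subtype.ext (Subtype.ext (Prod.ext hy.symm h1))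
    · obtain ⟨a, ha⟩ := X.surj (X'.π b)
      obtain ⟨x, hx⟩ := hcov ⟨(a, b), ha⟩
      exact ⟨⟨_, hx⟩, rfl⟩
  exact ⟨(MulEquiv.ofBijective f hf).symm.trans (MulEquiv.ofBijective f' hf')⟩

end Pullback

/-! ### The given data -/

theorem exists_ext {E : Type*} [Group E] (N : Subgroup E) [N.Normal]
    (φ : E ⧸ N ≃* ↥Spor.M23) (θ : (GolayPt → ZMod 2) →+ Additive ↥N)
    (hsurj : Function.Surjective θ)
    (hker : ∀ w : GolayPt → ZMod 2, θ w = 0 ↔ (w ∈ golayCode ∨ w + Pi.single none 1 ∈ golayCode))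
    (hθ : ∀ (g : E) (w : GolayPt → ZMod 2),
      ((θ (w ∘ ⇑(((φ (QuotientGroup.mk g) : ↥Spor.M23) : Equiv.Perm GolayPt)⁻¹))).toMul : E)
        = g * ((θ w).toMul : E) * g⁻¹) :
    ∃ X : Ext E, X.π.ker = N := by
  have hθc : ∀ w, θ w = θ (dualW (coordW w)) := fun w => by
    rw [← sub_eq_zero, ← map_sub, hker, ← coordW_eq_zero]
    rw [show w - dualW (coordW w) = w + dualW (coordW w) from CharTwo.sub_eq_add _ _, coordW_add,
      coordW_dualW, vec_self]
  have hπ : ∀ e : E, φ (QuotientGroup.mk e) = 1 ↔ e ∈ N := fun e => by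
    rw [φ.map_eq_one_iff, QuotientGroup.eq_one_iff]
  refine ⟨⟨φ.toMonoidHom.comp (QuotientGroup.mk' N), fun x => ((θ (dualW x)).toMul : E),
    φ.surjective.comp (QuotientGroup.mk'_surjective N), fun x y => by rw [dualW_add, map_add]; rfl,
    fun x hx => ?_, fun e => ?_, fun g x => ?_⟩, ?_⟩
  · have h0 : θ (dualW x) = 0 := Additive.toMul.injective (Subtype.ext hx)
    rw [hker, ← coordW_eq_zero, coordW_dualW] at h0
    exact h0
  · constructor
    · intro h
      obtain ⟨w, hw⟩ := hsurj (Additive.ofMul ⟨e, (hπ e).1 h⟩)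
      refine ⟨coordW w, ?_⟩
      show ((θ (dualW (coordW w))).toMul : E) = e
      rw [← hθc, hw]; rfl
    · rintro ⟨x, rfl⟩
      exact (hπ _).2 (θ (dualW x)).toMul.2
  · show g * _ = ((θ (dualW (mOf _ x))).toMul : E) * g
    rw [mOf, ← hθc]
    show _ = ((θ (dualW x ∘ ⇑(((φ (QuotientGroup.mk g) : ↥Spor.M23) : pG)⁻¹))).toMul : E) * g
    rw [hθ g, inv_mul_cancel_right]
  · ext e; exact hπ e

end Cfsg.Agent.M23CocodeUniq.Ext
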